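import Mathlib.CategoryTheory.Localization.Triangulated
import Mathlib.CategoryTheory.Triangulated.Subcategory
import Mathlib.CategoryTheory.Triangulated.Triangulated

/-!
Zero objects in localizations of preadditive and pretriangulated categories.
-/

set_option autoImplicit false
set_option linter.style.haveILetI false

universe v u v' u'

open CategoryTheory CategoryTheory.Limits CategoryTheory.Pretriangulated ZeroObject

namespace Groth.Agent.TriLoc

section Preadditive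

variable {C : Type u} [Category.{v} C] [Preadditive C] {D : Type u'} [Category.{v'} D]
  (L : C ⥤ D) (W : MorphismProperty C) [L.IsLocalization W]

theorem isZero_obj_of_isZero [W.HasLeftCalculusOfFractions] {X : C} (hX : IsZero X) :
    IsZero (L.obj X) := by
  letI : Preadditive D := Localization.preadditive L W
  haveI : L.Additive := Localization.functor_additive L W
  exact L.map_isZero hX

theorem isZero_obj_of_zero_mem [W.HasLeftCalculusOfFractions] {X Y : C} (h : W (0 : X ⟶ Y)) :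
    IsZero (L.obj X) ∧ IsZero (L.obj Y) := by
  letI : Preadditive D := Localization.preadditive L W
  haveI : L.Additive := Localization.functor_additive L W
  haveI : IsIso (L.map (0 : X ⟶ Y)) := Localization.inverts L W _ h
  have e : L.map (0 : X ⟶ Y) = 0 := L.map_zero _ _
  obtain ⟨i, hi⟩ : ∃ i : L.obj X ≅ L.obj Y, i.hom = 0 := ⟨asIso (L.map (0 : X ⟶ Y)), e⟩
  constructor
  · rw [IsZero.iff_id_eq_zero, ← i.hom_inv_id, hi, zero_comp]
  · rw [IsZero.iff_id_eq_zero, ← i.inv_hom_id, hi, comp_zero]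

theorem isZero_obj_iff_left [W.HasLeftCalculusOfFractions] (X : C) :
    IsZero (L.obj X) ↔ ∃ Y : C, W (0 : X ⟶ Y) := by
  refine ⟨fun h => ?_, fun ⟨Y, hY⟩ => (isZero_obj_of_zero_mem L W hY).1⟩
  obtain ⟨Y, t, ht, eq⟩ := (MorphismProperty.map_eq_iff_postcomp L W (𝟙 X) 0).1 (h.eq_of_src _ _)
  rw [Category.id_comp, zero_comp] at eq
  exact ⟨Y, eq ▸ ht⟩

theorem isZero_obj_iff_right [W.HasLeftCalculusOfFractions] [W.HasRightCalculusOfFractions]
    (X : C) : IsZero (L.obj X) ↔ ∃ Z : C, W (0 : Z ⟶ X) := by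
  refine ⟨fun h => ?_, fun ⟨Y, hY⟩ => (isZero_obj_of_zero_mem L W hY).2⟩
  obtain ⟨Z, t, ht, eq⟩ := (MorphismProperty.map_eq_iff_precomp L W (𝟙 X) 0).1 (h.eq_of_src _ _)
  rw [Category.comp_id, comp_zero] at eq
  exact ⟨Z, eq ▸ ht⟩

end Preadditive

section Triangulated

variable {D : Type u} [Category.{v} D] [Preadditive D] [HasZeroObject D] [HasShift D ℤ]
  [∀ n : ℤ, (shiftFunctor D n).Additive] [Pretriangulated D]
  {E : Type u'} [Category.{v'} E] (Q : D ⥤ E) (S : MorphismProperty D) [Q.IsLocalization S]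

/-- The third object of a distinguished triangle whose first morphism is inverted goes to zero. -/
theorem isZero_obj₃_of_mem [S.HasLeftCalculusOfFractions] [S.IsCompatibleWithTriangulation]
    (T : Triangle D) (hT : T ∈ distTriang D) (h : S T.mor₁) : IsZero (Q.obj T.obj₃) := by
  obtain ⟨c, hc, -, -⟩ := MorphismProperty.compatible_with_triangulation (W := S) _ _
    (contractible_distinguished T.obj₁) hT (𝟙 T.obj₁) T.mor₁ (S.id_mem _) h
    (show 𝟙 T.obj₁ ≫ T.mor₁ = 𝟙 T.obj₁ ≫ T.mor₁ from rfl)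
  haveI : IsIso (Q.map c) := Localization.inverts Q S _ hc
  exact IsZero.of_iso (isZero_obj_of_isZero Q S (isZero_zero D)) (asIso (Q.map c)).symm

theorem isZero_obj_of_retract_cone [S.HasLeftCalculusOfFractions]
    [S.IsCompatibleWithTriangulation] {Z Z' X Y : D} (f : X ⟶ Y) (g : Y ⟶ Z ⊞ Z')
    (h : Z ⊞ Z' ⟶ X⟦(1 : ℤ)⟧) (hT : Triangle.mk f g h ∈ distTriang D) (hf : S f) :
    IsZero (Q.obj Z) := by
  letI : Preadditive E := Localization.preadditive Q S
  have h0 : IsZero (Q.obj (Z ⊞ Z')) := isZero_obj₃_of_mem Q S _ hT hf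
  rw [IsZero.iff_id_eq_zero, ← Q.map_id, ← biprod.inl_fst (X := Z) (Y := Z'), Q.map_comp,
    h0.eq_of_tgt (Q.map biprod.inl) 0, zero_comp]

theorem isZero_obj_iff_exists_cone [S.HasLeftCalculusOfFractions] [S.HasRightCalculusOfFractions]
    [S.IsCompatibleWithTriangulation] (Z : D) :
    IsZero (Q.obj Z) ↔
      ∃ (Z' X Y : D) (f : X ⟶ Y) (g : Y ⟶ Z ⊞ Z') (h : Z ⊞ Z' ⟶ X⟦(1 : ℤ)⟧),
        Triangle.mk f g h ∈ distTriang D ∧ S f := by
  refine ⟨fun hZ => ?_, fun ⟨Z', X, Y, f, g, h, hT, hf⟩ => isZero_obj_of_retract_cone Q S f g h hT hf⟩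
  obtain ⟨W', hW'⟩ := (isZero_obj_iff_left Q S Z).1 hZ
  have h1 : S ((0 : Z ⟶ W')⟦(-1 : ℤ)⟧') := S.shift hW' (-1 : ℤ)
  rw [Functor.map_zero] at h1
  -- the triangle `Z⟦-1⟧ ⟶ W'⟦-1⟧ ⟶ W'⟦-1⟧ ⊞ Z`
  have hT := inv_rot_of_distTriang _ (binaryBiproductTriangle_distinguished (W'⟦(-1 : ℤ)⟧) Z)
  refine ⟨W'⟦(-1 : ℤ)⟧, Z⟦(-1 : ℤ)⟧, W'⟦(-1 : ℤ)⟧, 0,
    biprod.inl ≫ (biprod.braiding _ _).hom,
    (biprod.braiding _ _).inv ≫ (biprod.snd ≫ (shiftEquiv D (1 : ℤ)).counitIso.inv.app _),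
    isomorphic_distinguished _ hT _ ?_, h1⟩
  refine Triangle.isoMk _ _ (Iso.refl _) (Iso.refl _) (biprod.braiding _ _).symm ?_ ?_ ?_
  · change (0 : Z⟦(-1 : ℤ)⟧ ⟶ W'⟦(-1 : ℤ)⟧) ≫ 𝟙 _ =
      𝟙 _ ≫ (binaryBiproductTriangle (W'⟦(-1 : ℤ)⟧) Z).invRotate.mor₁
    simp [binaryBiproductTriangle]
    erw [Functor.map_zero, zero_comp, neg_zero]
    rfl
  · change (biprod.inl ≫ (biprod.braiding (W'⟦(-1 : ℤ)⟧) Z).hom) ≫ (biprod.braiding _ _).inv =
      𝟙 (W'⟦(-1 : ℤ)⟧) ≫ biprod.inl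
    rw [Category.assoc, Iso.hom_inv_id, Category.comp_id, Category.id_comp]
  · change ((biprod.braiding (W'⟦(-1 : ℤ)⟧) Z).inv ≫ biprod.snd ≫ _) ≫
      (shiftFunctor D (1 : ℤ)).map (𝟙 (Z⟦(-1 : ℤ)⟧)) =
      (biprod.braiding (W'⟦(-1 : ℤ)⟧) Z).inv ≫ (biprod.snd ≫ _)
    rw [CategoryTheory.Functor.map_id, Category.comp_id]
    rfl

end Triangulated

end Groth.Agent.TriLoc
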